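import Cfsg.Agent.BlocksB.HeightBound.Pairs
import Cfsg.Agent.BlocksB.Star.Focal

/-!
# The bound on the heights from the central subsections
-/

set_option autoImplicit false
set_option linter.style.haveILetI false
set_option linter.unusedSectionVars false

namespace CfsgLib.HeightBound

open Cfsg Finset CfsgLib.Block CfsgLib.Block.Chr CfsgLib.BrauerPairs CfsgLib.BlockStar
  CfsgLib.BlockB
open scoped ComplexConjugate
open scoped Classical

universe u

variable {M : Ideal AlgInt} [M.IsPrime] {p : ℕ} [Fact p.Prime] [CharP (Residue M) p]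
  {G : Type u} [Group G] [Fintype G]

local notation "𝕜" => Residue M
local notation "Z[" x "]" => Subgroup.zpowers x
local notation "C[" Q "]" => Subgroup.centralizer (SetLike.coe Q)

/-- The scaled contribution over `p` to the height is an algebraic integer. -/
theorem isIntegral_scaled (hM : IsPModular p M) {H : Subgroup G} [Fintype H] {y : G}
    (hH : H = Subgroup.centralizer ({y} : Set G)) {k : ℕ} (hy : orderOf y = p ^ k)
    {b : Set (IrrCharacter H)} {B : Set (IrrCharacter G)} (hind : IsInducedBlock M H b B)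
    (hle : blockDefect p b ≤ blockDefect p B) {χ : IrrCharacter G} (hχ : χ ∈ B) :
    IsIntegral ℤ ((p : ℂ) ^ blockDefect p B * contrib p b y χ χ /
      (p : ℂ) ^ blockHeight p B (χ : G → ℂ)) := by
  set a := (Nat.card G).factorization p
  set d := blockDefect p B
  set h := blockHeight p B (χ : G → ℂ)
  have hd : d ≤ a := blockDefect_le B
  have hp0 : (p : ℂ) ≠ 0 := Nat.cast_ne_zero.2 hM.1.ne_zero
  have hyH : y ∈ H := by rw [mem_H_iff hH]
  set w : ℕ := Nat.card G / p ^ a
  set e : ℕ := charDegree (χ : G → ℂ) / p ^ (charDegree (χ : G → ℂ)).factorization p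
  have he : ¬ p ∣ e := Nat.not_dvd_ordCompl hM.1 (irr_one χ).2.ne'
  have hw : ¬ p ∣ w := Nat.not_dvd_ordCompl hM.1 Nat.card_pos.ne'
  have he0 : (e : ℂ) ≠ 0 := Nat.cast_ne_zero.2 fun h => he (h ▸ dvd_zero p)
  set R := (p : ℂ) ^ d * contrib p b y χ χ / (p : ℂ) ^ h
  have hdeg : charDegree (χ : G → ℂ) = p ^ (a - d + h) * e := by
    rw [← factorization_degree hM hind.2.1 hχ]
    exact (Nat.ordProj_mul_ordCompl_eq_self _ _).symm
  have hG : (Nat.card G : ℂ) = (p : ℂ) ^ (a - d) * (p : ℂ) ^ d * w := by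
    rw [← pow_add, Nat.sub_add_cancel hd, ← Nat.cast_pow, ← Nat.cast_mul,
      Nat.ordProj_mul_ordCompl_eq_self]
  have hom : (w : ℂ) * R = e * omega (χ : G → ℂ) (contribFun p b y χ hyH) := by
    rw [omega_contribFun hM hH hind.1, (irr_one χ).1, hdeg, hG]
    simp only [R, Nat.cast_mul, Nat.cast_pow, pow_add]
    field_simp
  have h1 : IsIntegral ℤ ((w : ℂ) * R) := by
    rw [hom]
    refine (isIntegral_natCast_complex e).mul ?_
    haveI : Fintype (G ⧸ H) := Fintype.ofFinite _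
    rw [omega_eq_sum_classes χ (isIntClass_contribFun hM hH hy hind.1 χ hyH).1]
    refine IsIntegral.sum _ fun C _ => IsIntegral.mul ?_ (centralChar_isIntegral χ _)
    simp only [contribFun]
    rw [indFun_eq_sum_cosets _ (isClassFunction_shift hH χ hyH), map_sum]
    refine IsIntegral.sum _ fun q _ => ?_
    by_cases hm : q.out⁻¹ * C.out * q.out ∈ H
    · rw [CfsgLib.Char.extendByZero_of_mem _ hm]
      exact (isIntegral_subPart hM hH hy hind.1 χ _).map (RingHom.toIntAlgHom (starRingEnd ℂ))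
    · rw [CfsgLib.Char.extendByZero_of_not_mem _ hm, map_zero]
      exact isIntegral_zero
  have h2 : IsIntegral ℤ (((p ^ h : ℕ) : ℂ) * R) := by
    have h3 := (scaled_contrib_mem hM hH hy hind.1 (le_refl k) χ χ).2
    have heq : ((p ^ h : ℕ) : ℂ) * R =
        ((p ^ (d - blockDefect p b) : ℕ) : ℂ) * ((p : ℂ) ^ blockDefect p b * contrib p b y χ χ) := by
      simp only [R, Nat.cast_pow]
      rw [← mul_assoc, ← pow_add, Nat.sub_add_cancel hle, mul_div_cancel₀ _ (pow_ne_zero _ hp0)]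
    rw [heq]
    exact (isIntegral_natCast_complex _).mul h3
  have hcop : Nat.Coprime w (p ^ h) := ((hM.1.coprime_iff_not_dvd.2 hw).pow_left h).symm
  have hbez : ((w : ℤ) : ℂ) * (Nat.gcdA w (p ^ h) : ℂ) +
      (((p ^ h : ℕ) : ℤ) : ℂ) * (Nat.gcdB w (p ^ h) : ℂ) = 1 := by
    rw [← Int.cast_mul, ← Int.cast_mul, ← Int.cast_add, ← Nat.gcd_eq_gcd_ab, hcop.gcd_eq_one]
    simp
  have hint : ∀ m : ℤ, IsIntegral ℤ (m : ℂ) := fun m => by
    simpa using isIntegral_algebraMap (R := ℤ) (A := ℂ) (x := m)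
  show IsIntegral ℤ R
  have : R = (Nat.gcdA w (p ^ h) : ℂ) * ((w : ℂ) * R) +
      (Nat.gcdB w (p ^ h) : ℂ) * (((p ^ h : ℕ) : ℂ) * R) := by
    conv_lhs => rw [← one_mul R, ← hbez]
    push_cast
    ring
  rw [this]
  exact ((hint _).mul h1).add ((hint _).mul h2)

/-- **Heights are bounded by the central subsections.** -/
theorem pow_height_mul_center_le (hM : IsPModular p M) {B : Set (IrrCharacter G)}
    (hB : IsPBlock M B) {D L : Subgroup G} {e : MonoidAlgebra 𝕜 G}
    (hmax : IsMaxPair p (idem M B) (D, e)) (hLT : L ≤ stab D e) (hLD : L = D ⊔ C[D])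
    {χ : IrrCharacter G} (hχ : χ ∈ B) :
    p ^ blockHeight p B (χ : G → ℂ) * Nat.card (Subgroup.center D) ≤
      L.relIndex (stab D e) * p ^ blockDefect p B := by
  letI := irrFintype (G := G)
  have hb := isBlk_idem hM hB
  have hP : IsPair p (D, e) := hmax.1.1
  haveI : Fintype (Subgroup.center D) := Fintype.ofFinite _
  haveI : Fintype (stab D e) := Fintype.ofFinite _
  set E := fun u : G => subBlk p D e u
  set ι := fun z : Subgroup.center D => ((z : D) : G) with hι
  have hzD : ∀ z : Subgroup.center D, ι z ∈ D := fun z => (z : D).2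
  have hzC : ∀ z : Subgroup.center D, ι z ∈ (C[D] : Subgroup G) := fun z =>
    Subgroup.mem_centralizer_iff.2 fun v hv =>
      congrArg Subtype.val (Subgroup.mem_center_iff.1 z.2 ⟨v, hv⟩)
  have hιinj : Function.Injective ι := fun z z' h => Subtype.ext (Subtype.ext h)
  set idx := L.relIndex (stab D e)
  -- orbits of the inertial group
  have horb : ∀ z : Subgroup.center D, (univ.filter fun z' : Subgroup.center D =>
      ∃ n ∈ stab D e, n * ι z * n⁻¹ = ι z').card ≤ idx := by
    intro z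
    haveI : Fintype ((stab D e) ⧸ L.subgroupOf (stab D e)) := Fintype.ofFinite _
    have hLz : ∀ l ∈ L, l * ι z * l⁻¹ = ι z := by
      intro l hl
      have hle : L ≤ Subgroup.centralizer ({ι z} : Set G) := by
        rw [hLD]
        refine sup_le (fun x hx => ?_) (fun x hx => ?_)
        · exact Subgroup.mem_centralizer_singleton_iff.2 (Subgroup.mem_centralizer_iff.1 (hzC z) x hx)
        · exact Subgroup.mem_centralizer_singleton_iff.2
            (Subgroup.mem_centralizer_iff.1 hx _ (hzD z)).symm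
      rw [Subgroup.mem_centralizer_singleton_iff.1 (hle hl), mul_inv_cancel_right]
    refine le_trans (card_le_card_of_injOn
      (fun z' => if h : ∃ n ∈ stab D e, n * ι z * n⁻¹ = ι z' then
        ((⟨h.choose, h.choose_spec.1⟩ : stab D e) : (stab D e) ⧸ L.subgroupOf (stab D e)) else
        ((1 : stab D e) : (stab D e) ⧸ L.subgroupOf (stab D e)))
      (t := univ) (fun _ _ => mem_univ _) ?_) (le_of_eq ?_)
    · intro a ha b' hb' hab
      have ha' := (mem_filter.1 (mem_coe.1 ha)).2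
      have hb'' := (mem_filter.1 (mem_coe.1 hb')).2
      simp only [dif_pos ha', dif_pos hb''] at hab
      rw [QuotientGroup.eq, Subgroup.mem_subgroupOf] at hab
      refine hιinj ?_
      rw [← ha'.choose_spec.2, ← hb''.choose_spec.2]
      set m := ha'.choose
      set m' := hb''.choose
      have h1 := hLz _ hab
      simp only [Subgroup.coe_mul, Subgroup.coe_inv] at h1
      calc m * ι z * m⁻¹ = m * (m⁻¹ * m' * ι z * (m⁻¹ * m')⁻¹) * m⁻¹ := by rw [h1]
        _ = m' * ι z * m'⁻¹ := by group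
    · rw [card_univ, ← Nat.card_eq_fintype_card]
      rfl
  -- the subsections
  have hzp : ∀ z, ι z ∈ pSet p G := fun z => mem_pSet_of_mem hP (hzD z)
  have hEblk : ∀ z, E (ι z) ∈ blks M (ι z) := fun z =>
    mem_blks.2 (PLE.isPair (subBlk_ple hP (hzD z)) hP).2
  set T := (pSet p G).sigma fun x => blks M x
  let Ψ : G × Subgroup.center D → (_ : G) × MonoidAlgebra 𝕜 G := fun y =>
    ⟨y.1 * ι y.2 * y.1⁻¹, cj 𝕜 y.1 (E (ι y.2))⟩
  have hΨ : ∀ y ∈ (univ : Finset (G × Subgroup.center D)), Ψ y ∈ T := fun y _ => by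
    refine mem_sigma.2 ⟨?_, ?_⟩
    · obtain ⟨j, hj⟩ := mem_pSet.1 (hzp y.2)
      exact mem_pSet.2 ⟨j, by rw [conj_pow, hj, mul_one, mul_inv_cancel]⟩
    · have := (mem_blks.1 (hEblk y.2)).cj y.1
      rw [map_conj_centralizer, MonoidHom.map_zpowers] at this
      exact mem_blks.2 this
  set F := fun t : (_ : G) × MonoidAlgebra 𝕜 G => contribR p χ χ t.1 t.2
  have hfib : ∀ t ∈ T, (univ.filter fun y => Ψ y = t).card ≤ idx * Nat.card C[Z[t.1]] := by
    intro t _
    by_cases hne : (univ.filter fun y => Ψ y = t).Nonempty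
    swap
    · rw [not_nonempty_iff_eq_empty.1 hne, card_empty]; exact Nat.zero_le _
    obtain ⟨⟨g₀, z₀⟩, h₀⟩ := hne
    rw [mem_filter] at h₀
    obtain ⟨-, h₀⟩ := h₀
    set Y := univ.filter fun y => Ψ y = t
    have hmaps : ∀ y ∈ Y, y.2 ∈ univ.filter fun z' : Subgroup.center D =>
        ∃ n ∈ stab D e, n * ι z₀ * n⁻¹ = ι z' := by
      rintro ⟨g, z'⟩ hy
      have hy' := (mem_filter.1 hy).2.trans h₀.symm
      obtain ⟨h1, h2⟩ := Sigma.mk.inj_iff.1 hy'
      have h2' : cj 𝕜 g (E (ι z')) = cj 𝕜 g₀ (E (ι z₀)) := eq_of_heq h2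
      refine mem_filter.2 ⟨mem_univ _, central_fusion hM hB hmax (hzD z₀) (hzC z₀) (hzD z')
        (hzC z') (g := g⁻¹ * g₀) ?_ ?_⟩
      · calc g⁻¹ * g₀ * ι z₀ * (g⁻¹ * g₀)⁻¹ = g⁻¹ * (g₀ * ι z₀ * g₀⁻¹) * g := by group
          _ = g⁻¹ * (g * ι z' * g⁻¹) * g := by rw [← h1]
          _ = ι z' := by group
      · rw [cj_mul, ← h2', cj_inv_cj]
    rw [card_eq_sum_card_fiberwise hmaps]
    refine le_trans (sum_le_card_nsmul _ _ (Nat.card C[Z[t.1]]) fun z' _ => ?_) ?_
    · by_cases hne' : (Y.filter fun y => y.2 = z').Nonempty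
      swap
      · rw [not_nonempty_iff_eq_empty.1 hne', card_empty]; exact Nat.zero_le _
      obtain ⟨y₁, hy₁⟩ := hne'
      rw [Nat.card_eq_fintype_card, ← card_univ]
      refine card_le_card_of_injOn (fun y => if h : y.1 * y₁.1⁻¹ ∈ C[Z[t.1]] then
        (⟨_, h⟩ : C[Z[t.1]]) else 1) (fun _ _ => mem_univ _) ?_
      have hmem : ∀ y ∈ Y.filter (fun y => y.2 = z'), y.1 * y₁.1⁻¹ ∈ C[Z[t.1]] := by
        intro y hy
        obtain ⟨hyY, hy2⟩ := mem_filter.1 hy
        obtain ⟨hy1Y, hy12⟩ := mem_filter.1 hy₁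
        have h1 : y.1 * ι y.2 * y.1⁻¹ = t.1 := congrArg Sigma.fst (mem_filter.1 hyY).2
        have h3 : y₁.1 * ι y₁.2 * y₁.1⁻¹ = t.1 := congrArg Sigma.fst (mem_filter.1 hy1Y).2
        rw [hy2] at h1
        rw [hy12] at h3
        rw [mem_cz]
        calc y.1 * y₁.1⁻¹ * t.1 = y.1 * y₁.1⁻¹ * (y₁.1 * ι z' * y₁.1⁻¹) := by rw [h3]
          _ = y.1 * ι z' * y.1⁻¹ * (y.1 * y₁.1⁻¹) := by group
          _ = t.1 * (y.1 * y₁.1⁻¹) := by rw [h1]
      intro y hy y' hy' h
      have hy0 := mem_coe.1 hy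
      have hy0' := mem_coe.1 hy'
      simp only [dif_pos (hmem y hy0), dif_pos (hmem y' hy0')] at h
      exact Prod.ext (mul_right_cancel (congrArg Subtype.val h))
        ((mem_filter.1 hy0).2.trans (mem_filter.1 hy0').2.symm)
    · rw [smul_eq_mul]
      exact Nat.mul_le_mul_right _ (horb z₀)
  -- total nonnegativity
  set a := (Nat.card G).factorization p
  have hkey : ∀ x ∈ pSet p G, ∀ f ∈ blks M x, TNN (p ^ a) (contribR p χ χ x f) := by
    intro x hx f hf
    obtain ⟨c, hc, rfl⟩ := exists_idemIn_eq hM (mem_blks.1 hf)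
    obtain ⟨j, hj⟩ := mem_pSet.1 hx
    obtain ⟨k, -, hk⟩ := (Nat.dvd_prime_pow hM.1).1 (orderOf_dvd_of_pow_eq_one hj)
    rw [contribR_idemIn hM χ χ hx hc]
    refine tnn_contrib hM (centralizer_zpowers_eq x) hk hc ?_ χ
    refine (hM.1.pow_dvd_iff_le_factorization Nat.card_pos.ne').1 ?_
    rw [← hk]
    exact _root_.orderOf_dvd_natCard x
  have htot : (Nat.card G : ℂ) = ∑ t ∈ T, (Nat.card C[Z[t.1]] : ℂ) * F t := by
    have h := classInner_starFun' (p := p) hM (fun _ _ => (1 : ℂ)) (fun _ _ => (1 : ℂ)) χ χ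
    rw [starFun_const_one hM χ, classInner_irr, if_pos rfl, eq_inv_mul_iff_mul_eq₀
      (Nat.cast_ne_zero.2 Nat.card_pos.ne'), mul_one] at h
    rw [h, Finset.sum_sigma]
    exact sum_congr rfl fun x _ => by simp [F, mul_sum]
  have hsumZ : (Nat.card G : ℂ) * ∑ z : Subgroup.center D, contribR p χ χ (ι z) (E (ι z)) =
      ∑ t ∈ T, ((univ.filter fun y => Ψ y = t).card : ℂ) * F t := by
    rw [mul_sum, sum_congr rfl fun t _ => show ((univ.filter fun y => Ψ y = t).card : ℂ) * F t =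
      ∑ y ∈ univ.filter (fun y => Ψ y = t), F (Ψ y) by
        rw [sum_congr rfl fun y hy => by rw [(mem_filter.1 hy).2], sum_const, nsmul_eq_mul],
      sum_fiberwise_of_maps_to hΨ, Fintype.sum_prod_type, sum_comm]
    refine sum_congr rfl fun z _ => ?_
    rw [sum_congr rfl fun g _ => show F (Ψ (g, z)) = contribR p χ χ (ι z) (E (ι z)) from
      contribR_conj hM χ χ (hzp z) (mem_blks.1 (hEblk z)) g, sum_const, card_univ, nsmul_eq_mul,
      Nat.card_eq_fintype_card]
  -- the scaled contributions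
  set d := blockDefect p B
  set h := blockHeight p B (χ : G → ℂ)
  set y := fun z : Subgroup.center D =>
    (p : ℂ) ^ d * contribR p χ χ (ι z) (E (ι z)) / (p : ℂ) ^ h
  set r : ℚ := (p : ℚ) ^ d / ((p : ℚ) ^ h * Nat.card G)
  have hr : 0 ≤ r := by positivity
  have hrest : TNN (p ^ a) ((((idx * p ^ d : ℚ) / (p : ℚ) ^ h : ℚ) : ℂ) -
      ∑ z : Subgroup.center D, y z) := by
    have heq : (((idx * p ^ d : ℚ) / (p : ℚ) ^ h : ℚ) : ℂ) - ∑ z : Subgroup.center D, y z =
        (r : ℂ) * ∑ t ∈ T,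
          ((idx * Nat.card C[Z[t.1]] - (univ.filter fun y => Ψ y = t).card : ℕ) : ℂ) * F t := by
      rw [sum_congr rfl fun t ht => show ((idx * Nat.card C[Z[t.1]] -
          (univ.filter fun y => Ψ y = t).card : ℕ) : ℂ) * F t =
          (idx : ℂ) * ((Nat.card C[Z[t.1]] : ℂ) * F t) -
            ((univ.filter fun y => Ψ y = t).card : ℂ) * F t by
        rw [Nat.cast_sub (hfib t ht)]; push_cast; ring,
        sum_sub_distrib, ← mul_sum, ← htot, ← hsumZ]
      simp only [y, ← sum_div, ← mul_sum, r]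
      have hG0 : (Nat.card G : ℂ) ≠ 0 := Nat.cast_ne_zero.2 Nat.card_pos.ne'
      have hp0 : (p : ℂ) ≠ 0 := Nat.cast_ne_zero.2 hM.1.ne_zero
      push_cast
      field_simp
    rw [heq]
    exact (TNN.sum _ fun t ht => (hkey t.1 (mem_sigma.1 ht).1 t.2 (mem_sigma.1 ht).2).natMul _).ratMul hr
  have hy : ∀ z, TNN (p ^ a) (y z) ∧ IsIntegral ℤ (y z) ∧ y z ≠ 0 := by
    intro z
    refine ⟨?_, ?_, ?_⟩
    · have := (hkey _ (hzp z) _ (hEblk z)).ratMul (q := (p : ℚ) ^ d / (p : ℚ) ^ h) (by positivity)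
      convert this using 1
      simp only [y]
      push_cast
      ring
    · obtain ⟨c, hc, hcE⟩ := exists_idemIn_eq hM (mem_blks.1 (hEblk z))
      obtain ⟨j, hj⟩ := mem_pSet.1 (hzp z)
      obtain ⟨k, -, hk⟩ := (Nat.dvd_prime_pow hM.1).1 (orderOf_dvd_of_pow_eq_one hj)
      have hpair : IsPairOf p (idem M B) (Z[ι z], idemIn M C[Z[ι z]] c) := by
        rw [hcE]
        exact (isPairOf_iff_of_ple hb (subBlk_ple hP (hzD z)) hP).2 hmax.1
      have hind := isInducedBlock_of_isBrauerPairOf hM (zpowers_le_centralizer_zpowers (ι z))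
        ((isBrauerPairOf_iff hM).2 ⟨⟨hpair.1.1, hc⟩, hB, hpair⟩)
      have hle := blockDefect_le_of_induced hM hpair.1.1 rfl (zpowers_le_centralizer_zpowers (ι z)) hind
      simp only [y]
      rw [← hcE, contribR_idemIn hM χ χ (hzp z) hc]
      exact isIntegral_scaled hM (centralizer_zpowers_eq (ι z)) hk hind hle hχ
    · obtain ⟨ψ, hψ, h0⟩ := exists_height_zero hM hB
      have hne := contribR_center_ne_zero hM hB hmax hχ hψ h0 (hzD z) (hzC z)
      refine div_ne_zero (mul_ne_zero (pow_ne_zero _ (Nat.cast_ne_zero.2 hM.1.ne_zero)) ?_)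
        (pow_ne_zero _ (Nat.cast_ne_zero.2 hM.1.ne_zero))
      intro hzero
      apply hne
      rw [contribR, mul_eq_zero] at hzero
      have h1 := hzero.resolve_left (inv_ne_zero (Nat.cast_ne_zero.2 Nat.card_pos.ne'))
      simp only [Complex.mul_conj'] at h1
      norm_cast at h1
      rw [sum_eq_zero_iff_of_nonneg fun _ _ => sq_nonneg _] at h1
      rw [contribR]
      refine mul_eq_zero_of_right _ (sum_eq_zero fun s hs => ?_)
      rw [norm_eq_zero.1 ((pow_eq_zero_iff two_ne_zero).1 (h1 s hs)), zero_mul]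
  have hfinal := TNN.le_of_rat (pow_pos hM.1.pos a) univ y _ (fun z _ => (hy z).2.1)
    (fun z _ => (hy z).1) (fun z _ => (hy z).2.2) hrest
  rw [card_univ, ← Nat.card_eq_fintype_card, le_div_iff₀
    (pow_pos (Nat.cast_pos.2 hM.1.pos) _)] at hfinal
  rw [mul_comm]
  exact_mod_cast hfinal

end CfsgLib.HeightBound
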