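import Cfsg.Agent.BlocksB.HeightBound.Positive
import Cfsg.Agent.BlocksB.InertialAbelian
import Cfsg.Agent.BrauerPairs.Transport

/-!
# Subsections central in a maximal pair
-/

set_option autoImplicit false
set_option linter.style.haveILetI false
set_option linter.unusedSectionVars false

namespace CfsgLib.HeightBound

open Cfsg Finset CfsgLib.Block CfsgLib.Block.Chr CfsgLib.BrauerPairs CfsgLib.BlockStar
  CfsgLib.BlockB
open scoped ComplexConjugate
open scoped Classical

universe u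

variable {M : Ideal AlgInt} [M.IsPrime] {p : ℕ} [Fact p.Prime] [CharP (Residue M) p]
  {G : Type u} [Group G] [Fintype G]

local notation "𝕜" => Residue M
local notation "Z[" x "]" => Subgroup.zpowers x
local notation "C[" Q "]" => Subgroup.centralizer (SetLike.coe Q)
local notation "N[" Q "]" => Subgroup.normalizer (SetLike.coe Q)

/-- A block of `D C(D)` with defect group `D` inducing `B` gives a maximal pair. -/
theorem maxPair_of_sup (hM : IsPModular p M) {B : Set (IrrCharacter G)} (hB : IsPBlock M B)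
    {D L : Subgroup G} (hPD : IsDefectGroup p M B D) (hL : L = D ⊔ C[D])
    {b : Set (IrrCharacter L)} (hind : IsInducedBlock M L b B) :
    IsMaxPair p (idem M B) (D, idemIn M L b) := by
  haveI := Fintype.ofFinite L
  have hD := isDef_of_isDefectGroup hM hB hPD
  have hDL : D ≤ L := hL ▸ le_sup_left
  have hCL : (C[D] : Subgroup G) ≤ L := hL ▸ le_sup_right
  have hLN : L ≤ N[D] := hL ▸ sup_le Subgroup.le_normalizer (centralizer_le_normalizer D)
  have hblk := isBlk_idemIn hM hind.1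
  set eL := idemIn M L b
  have hbr : br D eL = eL := br_eq_self_of_idem hD.1 hDL hLN hblk.mem hblk.idem
  have hmem : eL ∈ alg 𝕜 C[D] C[D] := ⟨hbr ▸ suppIn_br eL, hblk.fixBy.mono hCL⟩
  obtain ⟨f, hf, hne⟩ := exists_prim_mul_ne_zero (alg_comm (k := 𝕜) (le_refl C[D])) hblk.ne_zero
  have hfC : IsBlk 𝕜 C[D] f := hf
  have hP : IsPair p (D, f) := ⟨hD.1, hfC⟩
  have hfix : FixBy L f :=
    (fixBy_stab (Q := D)).mono (hL ▸ sup_le (le_stab hP) (centralizer_le_stab hP))
  have hfL : IsBlk 𝕜 L f := hfC.of_stable hD.1 hDL hLN hCL hfix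
  have hcomm : eL * f = f * eL := alg_comm (k := 𝕜) (le_refl C[D]) _ hmem _ hfC.mem
  have h1 : f * eL = f := by
    refine hfL.mul_eq_self hblk.mem hblk.idem ?_
    first
      | exact hne
      | rwa [← hcomm]
  have h2 : eL * f = eL := by
    refine hblk.mul_eq_self hfL.mem hfL.idem ?_
    first
      | exact hne
      | rwa [hcomm]
  have heq : eL = f := h2.symm.trans (hcomm.trans h1)
  refine (isMaxPair_iff_card (isBlk_idem hM hB) hD).mpr ⟨⟨heq ▸ hP, ?_⟩, rfl⟩
  exact (induced_iff_br hM hD.1 hDL hCL hLN hind.1 hB).1 hind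

/-- The stabilizer of a block of `D C(D)`. -/
theorem stab_eq_of_sup (hM : IsPModular p M) {D L : Subgroup G} (hL : L = D ⊔ C[D])
    {b : Set (IrrCharacter L)} (hb : IsPBlock M b) (T : Subgroup G)
    (hT : ∀ g : G, g ∈ T ↔ (g ∈ N[D] ∧ ∀ θ ∈ b, ∀ θ' : IrrCharacter L,
      (∀ h h' : L, (h' : G) = g * h * g⁻¹ → (θ' : L → ℂ) h' = (θ : L → ℂ) h) → θ' ∈ b)) :
    T = stab D (idemIn M L b) := by
  haveI := Fintype.ofFinite L
  have hNL : ∀ g ∈ (N[D] : Subgroup G), g ∈ Subgroup.normalizer (L : Set G) := fun g hg => by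
    have hm : L.map (MulAut.conj g).toMonoidHom = L := by
      rw [hL, Subgroup.map_sup, map_conj_eq_self hg, map_conj_eq_self (map_normalizer_centralizer hg)]
    rw [Subgroup.mem_normalizer_iff]
    intro a
    conv_rhs => rw [← hm]
    exact (Subgroup.mem_map_iff_mem (f := (MulAut.conj g).toMonoidHom)
      (MulAut.conj g).injective).symm
  ext g
  rw [hT, mem_stab]
  refine and_congr_right fun hg => ?_
  have hH := mem_normalizer_iff_conjEquiv.mp (hNL g hg)
  have hs := stabilizesBlock_iff (x := g) hM hb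
  constructor
  · intro h
    exact (hs.1 ⟨hNL g hg, fun χ hχ => ⟨_, h χ hχ _ ((isConjCharOf_iff hH _ _).2 rfl),
      (isConjCharOf_iff hH _ _).2 rfl⟩⟩).2
  · intro h θ hθ θ' hθ'
    obtain ⟨χ', hχ', hc⟩ := (hs.2 ⟨hNL g hg, h⟩).2 θ hθ
    rw [(isConjCharOf_iff hH _ _).1 hθ', ← (isConjCharOf_iff hH _ _).1 hc]
    exact hχ'

/-- Subsections central in a maximal pair are fused by the inertial group. -/
theorem central_fusion {B : Set (IrrCharacter G)} (hM : IsPModular p M) (hB : IsPBlock M B)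
    {D : Subgroup G} {e : MonoidAlgebra 𝕜 G} (hmax : IsMaxPair p (idem M B) (D, e))
    {u v g : G} (hu : u ∈ D) (huC : u ∈ (C[D] : Subgroup G)) (hv : v ∈ D)
    (hvC : v ∈ (C[D] : Subgroup G)) (huv : g * u * g⁻¹ = v)
    (hf : cj 𝕜 g (subBlk p D e u) = subBlk p D e v) :
    ∃ n ∈ stab D e, n * u * n⁻¹ = v := by
  have hb := isBlk_idem hM hB
  have hP : IsPair p (D, e) := hmax.1.1
  set f := subBlk p D e v
  have hDC : ∀ {w : G}, w ∈ (C[D] : Subgroup G) → D ≤ (C[Z[w]] : Subgroup G) := fun {w} hw x hx =>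
    mem_cz.2 (Subgroup.mem_centralizer_iff.1 hw x hx)
  have hle : PLE p (Z[v], f) (D, e) := subBlk_ple hP hv
  have hstep : NStep p (Z[v], f) (D, e) :=
    hle.nstep_of_le_normalizer hP ((hDC hvC).trans (centralizer_le_normalizer _))
  have hfc : IsDefMax p C[Z[v]] f (D ⊓ C[Z[v]]) := by
    rw [inf_eq_left.2 (hDC hvC)]
    refine ⟨hP.1, hDC hvC, fun h0 => ?_, fun R hR hRC hbr => ?_⟩
    · have := hstep.2.2.2.2.2
      simp only at this
      rw [h0, zero_mul] at this
      exact hP.2.ne_zero this.symm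
    · have hQ := PLE.isPair hle hP
      have hRN : R ≤ N[Z[v]] := hRC.trans (centralizer_le_normalizer _)
      have hR' : IsPGroup p (Z[v] ⊔ R : Subgroup G) := hQ.1.to_sup_of_normal_left' hR hRN
      have hbr' : br (Z[v] ⊔ R) f ≠ 0 := by
        rw [CfsgLib.BrauerPairs.br_sup_eq hQ.suppIn]; exact hbr
      have hfix : FixBy (Z[v] ⊔ R) f := hQ.2.fixBy.mono (sup_le (zpowers_le_centralizer_zpowers v) hRC)
      have hS := alg_comm (k := 𝕜) (le_refl C[Z[v] ⊔ R])
      have hmem := br_mem_alg (P := Z[v] ⊔ R) (le_sup_left : Z[v] ≤ Z[v] ⊔ R) hQ.2.mem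
      obtain ⟨j, hj, hne⟩ := exists_prim_mul_ne_zero hS hbr'
      have hjj : br (Z[v] ⊔ R) f * j = j := by
        rw [hS _ hmem _ hj.mem]
        exact hj.mul_eq_self hmem (br_idem hR' hQ.2.idem hfix) hne
      have hs : NStep p (Z[v], f) (Z[v] ⊔ R, j) :=
        ⟨hQ, ⟨hR', hj⟩, le_sup_left, sup_le Subgroup.le_normalizer hRN, hfix, hjj⟩
      have hpair := (isPairOf_iff_of_ple hb (Relation.ReflTransGen.single hs) ⟨hR', hj⟩).mp
        ((isPairOf_iff_of_ple hb hle hP).mpr hmax.1)
      obtain ⟨z, hz⟩ := exists_conj_ple_max hb hmax hpair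
      have h1 := Subgroup.card_le_of_le hz.le
      rw [cjPair, Subgroup.card_map_of_injective (MulEquiv.injective _)] at h1
      exact (Subgroup.card_le_of_le le_sup_right).trans h1
  have hU : IsPair p (cjPair g (D, e)) := hP.cj g
  have hQU : PLE p (Z[v], f) (cjPair g (D, e)) := by
    have h1 := (subBlk_ple hP hu).cj g
    rwa [cjPair_zpowers, huv, hf] at h1
  have hUL : D.map (MulAut.conj g).toMonoidHom ≤ D ⊔ C[Z[v]] := by
    rintro _ ⟨x, hx, rfl⟩
    refine Subgroup.mem_sup_right (mem_cz.2 ?_)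
    have h1 : x * u = u * x := Subgroup.mem_centralizer_iff.1 huC x hx
    simp only [MulEquiv.coe_toMonoidHom, MulAut.conj_apply]
    rw [← huv]
    calc g * x * g⁻¹ * (g * u * g⁻¹) = g * (x * u) * g⁻¹ := by group
      _ = g * (u * x) * g⁻¹ := by rw [h1]
      _ = g * u * g⁻¹ * (g * x * g⁻¹) := by group
  obtain ⟨c, hc, hcU⟩ := exists_centralizer_conj_ple hstep hfc hU hUL hQU
  replace hcU : PLE p (cjPair (c * g) (D, e)) (D, e) := by rw [cjPair_mul]; exact hcU
  have hmapD : D.map (MulAut.conj (c * g)).toMonoidHom = D :=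
    Subgroup.eq_of_le_of_card_ge (PLE.le hcU)
      (by rw [Subgroup.card_map_of_injective (MulEquiv.injective _)])
  have heq := hcU.eq_of_eq hmapD
  refine ⟨c * g, ⟨?_, congrArg Prod.snd heq⟩, ?_⟩
  · rw [Subgroup.mem_normalizer_iff]
    intro a
    conv_rhs => rw [← hmapD]
    exact (Subgroup.mem_map_iff_mem (f := (MulAut.conj (c * g)).toMonoidHom)
      (MulAut.conj (c * g)).injective).symm
  · rw [show c * g * u * (c * g)⁻¹ = c * (g * u * g⁻¹) * c⁻¹ by group, huv, mem_cz.1 hc,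
      mul_inv_cancel_right]

end CfsgLib.HeightBound
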