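import Cfsg.Agent.BlocksB.Star.Positive
import Cfsg.Agent.BlocksB.Star.Nilpotent

/-!
# Totally nonnegative elements and their average
-/

set_option autoImplicit false
set_option linter.style.haveILetI false
set_option linter.unusedSectionVars false

namespace CfsgLib.HeightBound

open Finset Cfsg CfsgLib.Block CfsgLib.Block.Chr CfsgLib.Char CfsgLib.BlockB
open scoped ComplexConjugate

universe u

/-- Nonnegative at every embedding. -/
def TNN (N : ℕ) (x : ℂ) : Prop :=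
  ∃ h : x ∈ cycloField N, ∀ σ : cycloField N →ₐ[ℚ] ℂ, ∃ r : ℝ, 0 ≤ r ∧ σ ⟨x, h⟩ = (r : ℂ)

theorem TNN.zero {N : ℕ} : TNN N 0 :=
  ⟨zero_mem _, fun σ => ⟨0, le_rfl, by
    rw [Complex.ofReal_zero]; exact (congrArg σ (Subtype.ext rfl)).trans (map_zero σ)⟩⟩

theorem TNN.add {N : ℕ} {x y : ℂ} (hx : TNN N x) (hy : TNN N y) : TNN N (x + y) := by
  obtain ⟨a, ha⟩ := hx
  obtain ⟨b, hb⟩ := hy
  refine ⟨add_mem a b, fun σ => ?_⟩
  obtain ⟨r, hr, hr'⟩ := ha σ
  obtain ⟨s, hs, hs'⟩ := hb σ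
  refine ⟨r + s, add_nonneg hr hs, ?_⟩
  rw [Complex.ofReal_add, ← hr', ← hs', ← map_add]
  rfl

theorem TNN.ratMul {N : ℕ} {q : ℚ} (hq : 0 ≤ q) {x : ℂ} (hx : TNN N x) : TNN N ((q : ℂ) * x) := by
  obtain ⟨a, ha⟩ := hx
  have hm : (q : ℂ) * x ∈ cycloField N :=
    mul_mem (by simpa using IntermediateField.algebraMap_mem (cycloField N) q) a
  refine ⟨hm, fun σ => ?_⟩
  obtain ⟨r, hr, hr'⟩ := ha σ
  refine ⟨(q : ℝ) * r, mul_nonneg (Rat.cast_nonneg.2 hq) hr, ?_⟩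
  rw [Complex.ofReal_mul, Complex.ofReal_ratCast, ← hr']
  refine (congrArg σ (show (⟨(q : ℂ) * x, hm⟩ : cycloField N) = (q : cycloField N) * ⟨x, a⟩ from
    Subtype.ext (by simp))).trans ?_
  rw [map_mul, map_ratCast]

theorem TNN.natMul {N : ℕ} (k : ℕ) {x : ℂ} (hx : TNN N x) : TNN N ((k : ℂ) * x) := by
  simpa using hx.ratMul (q := k) (Nat.cast_nonneg k)

theorem TNN.sum {N : ℕ} {ι : Type*} (s : Finset ι) {f : ι → ℂ} (h : ∀ i ∈ s, TNN N (f i)) :
    TNN N (∑ i ∈ s, f i) :=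
  sum_induction f (TNN N) (fun _ _ ha hb => ha.add hb) TNN.zero h

theorem TNN.le_of_rat {N : ℕ} (hN : 0 < N) {ι : Type*} (s : Finset ι) (y : ι → ℂ) (q : ℚ)
    (hint : ∀ i ∈ s, IsIntegral ℤ (y i)) (hpos : ∀ i ∈ s, TNN N (y i))
    (hne : ∀ i ∈ s, y i ≠ 0) (hrest : TNN N ((q : ℂ) - ∑ i ∈ s, y i)) : (s.card : ℚ) ≤ q := by
  classical
  haveI := finiteDimensional_cycloField hN
  obtain ⟨hqm, hqr⟩ := hrest
  choose hK hr using fun (i : {i // i ∈ s}) => hpos i.1 i.2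
  choose r hr0 hre using hr
  have hrpos : ∀ i σ, 0 < r i σ := by
    intro i σ
    refine lt_of_le_of_ne (hr0 i σ) fun h0 => hne i.1 i.2 ?_
    have h := hre i σ
    rw [← h0, Complex.ofReal_zero, map_eq_zero] at h
    exact congrArg Subtype.val h
  have hσ : ∀ σ : cycloField N →ₐ[ℚ] ℂ, ∑ i ∈ s.attach, r i σ ≤ (q : ℝ) := by
    intro σ
    obtain ⟨t, ht, hte⟩ := hqr σ
    have h : σ ⟨_, hqm⟩ = (q : ℂ) - ∑ i ∈ s.attach, σ ⟨y i.1, hK i⟩ := by
      have heq : (⟨_, hqm⟩ : cycloField N) =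
          (q : cycloField N) - ∑ i ∈ s.attach, ⟨y i.1, hK i⟩ := Subtype.ext ?_
      · rw [heq, map_sub, map_ratCast, map_sum]
      show (q : ℂ) - ∑ i ∈ s, y i =
        (((q : cycloField N) - ∑ i ∈ s.attach, ⟨y i.1, hK i⟩ : cycloField N) : ℂ)
      push_cast
      exact congrArg ((q : ℂ) - ·) (sum_attach s y).symm
    rw [hte, sum_congr rfl fun i _ => hre i σ, ← Complex.ofReal_sum, ← Complex.ofReal_ratCast,
      ← Complex.ofReal_sub, Complex.ofReal_inj] at h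
    linarith
  have hlow : ∀ i : {i // i ∈ s}, ((univ : Finset (cycloField N →ₐ[ℚ] ℂ)).card : ℝ) ≤
      ∑ σ : cycloField N →ₐ[ℚ] ℂ, r i σ := by
    intro i
    set x : cycloField N := ⟨y i.1, hK i⟩
    have hn := Algebra.norm_eq_prod_embeddings ℚ ℂ x
    have hint' : ∀ σ : cycloField N →ₐ[ℚ] ℂ, IsIntegral ℤ (σ x) := fun σ =>
      ((isIntegral_algebraMap_iff (algebraMap (cycloField N) ℂ).injective).1
        (hint i.1 i.2) : IsIntegral ℤ x).map (σ.restrictScalars ℤ)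
    obtain ⟨n, hn1, -⟩ := CfsgLib.Char.exists_int_of_isIntegral_rat (Algebra.norm ℚ x)
      (IsIntegral.prod _ fun σ _ => hint' σ) (hn.symm.trans (eq_ratCast _ _))
    have h1 : ((∏ σ : cycloField N →ₐ[ℚ] ℂ, r i σ : ℝ) : ℂ) = ((n : ℝ) : ℂ) := by
      rw [Complex.ofReal_prod, prod_congr rfl fun σ _ => (hre i σ).symm, Complex.ofReal_intCast]
      exact hn1
    rw [Complex.ofReal_inj] at h1
    have hp : (0 : ℝ) < n := h1 ▸ prod_pos fun σ _ => hrpos i σ
    have h2 : (1 : ℝ) ≤ ∏ σ : cycloField N →ₐ[ℚ] ℂ, r i σ := by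
      rw [h1]; exact_mod_cast (Int.cast_pos.1 hp : 0 < n)
    have h3 := sum_le_sum (s := univ) fun σ _ => Real.log_le_sub_one_of_pos (hrpos i σ)
    rw [← Real.log_prod fun σ _ => (hrpos i σ).ne', sum_sub_distrib, sum_const, nsmul_eq_mul,
      mul_one] at h3
    linarith [Real.log_nonneg h2]
  set m := (univ : Finset (cycloField N →ₐ[ℚ] ℂ)).card
  have hm0 : (0 : ℝ) < m := Nat.cast_pos.2 (card_pos.2 ⟨(cycloField N).val, mem_univ _⟩)
  have h2 := sum_le_sum (s := s.attach) fun i _ => hlow i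
  rw [sum_const, nsmul_eq_mul, card_attach, sum_comm] at h2
  have h3 := h2.trans (sum_le_sum fun σ _ => hσ σ)
  rw [sum_const, nsmul_eq_mul, mul_comm] at h3
  exact_mod_cast le_of_mul_le_mul_left h3 hm0

section contrib

variable {G : Type u} [Group G] [Fintype G] {M : Ideal AlgInt} [M.IsPrime] {p : ℕ} [Fact p.Prime]
  [CharP (Residue M) p]
  {H : Subgroup G} [Fintype H] {y : G} {b : Set (IrrCharacter H)}

/-- The contributions of a character with itself are totally nonnegative. -/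
theorem tnn_contrib (hM : IsPModular p M) (hH : H = Subgroup.centralizer ({y} : Set G))
    {k : ℕ} (hy : orderOf y = p ^ k) (hb : IsPBlock M b) {a : ℕ} (ha : k ≤ a)
    (χ : IrrCharacter G) : TNN (p ^ a) (contrib p b y χ χ) := by
  classical
  letI := irrFintype (G := H)
  haveI : Fintype b := Fintype.ofFinite b
  have hN : 0 < p ^ a := pow_pos hM.1.pos a
  choose L N hL _ _ hLN using fun ξ : b => exists_section_coeff hM hH hy χ ξ.1
  have hmem := (BlockStar.scaled_contrib_mem hM hH hy hb ha χ χ).1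
  refine ⟨hmem, fun σ => ?_⟩
  have hLm : ∀ ξ, L ξ ∈ cycloField (p ^ a) := fun ξ => root_mem_cycloField (by
    obtain ⟨c, hc⟩ := Nat.exists_eq_add_of_le ha
    rw [hc, pow_add, pow_mul, hL, one_pow])
  set d : b → ℂ := fun ξ => σ ⟨L ξ, hLm ξ⟩ * (N ξ : ℂ)
  set θ : H → ℂ := ∑ ξ : b, d ξ • regPart p ((ξ : IrrCharacter H) : H → ℂ)
  have hθ : classInner θ θ = ∑ ξ : b, ∑ ξ' : b, d ξ * conj (d ξ') * regMat p b ξ ξ' := by
    simp only [θ]
    rw [classInner_sum_left]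
    refine sum_congr rfl fun ξ _ => ?_
    rw [classInner_sum_right]
    refine sum_congr rfl fun ξ' _ => ?_
    rw [classInner_smul_left, classInner_smul_right, ← mul_assoc]
    congr 1
    simp only [regMat, CfsgLib.Char.classInner_def]
    congr 1
    refine sum_congr rfl fun g _ => ?_
    by_cases hg : p ∣ orderOf g
    · simp [regPart_of_dvd hg]
    · simp [regPart_of_not_dvd hg]
  refine ⟨(Nat.card H : ℝ)⁻¹ * ∑ g : H, ‖θ g‖ ^ 2,
    mul_nonneg (inv_nonneg.2 (Nat.cast_nonneg _)) (sum_nonneg fun g _ => sq_nonneg _), ?_⟩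
  have hself : classInner θ θ = (((Nat.card H : ℝ)⁻¹ * ∑ g : H, ‖θ g‖ ^ 2 : ℝ) : ℂ) := by
    rw [CfsgLib.Char.classInner_def, Complex.ofReal_mul, Complex.ofReal_inv, Complex.ofReal_natCast,
      Complex.ofReal_sum]
    congr 1
    exact sum_congr rfl fun g _ => by rw [Complex.mul_conj', Complex.ofReal_pow]
  rw [← hself, hθ]
  -- rational entries
  have hR : ∀ ξ ξ' : b, regMat p b ξ ξ' =
      (((redInt p b ξ.1 ξ'.1 : ℚ) / (p : ℚ) ^ blockDefect p b : ℚ) : ℂ) := fun ξ ξ' => by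
    have h := redInt_eq_regMat hM hb ξ ξ'
    push_cast
    rw [h, mul_div_cancel_left₀ _ (pow_ne_zero _ (Nat.cast_ne_zero.2 hM.1.ne_zero))]
  have hconj := fun ξ => conj_mem_and_comm hN σ (hLm ξ)
  have hformula : (⟨contrib p b y χ χ, hmem⟩ : cycloField (p ^ a)) = ∑ ξ : b, ∑ ξ' : b,
      ⟨L ξ, hLm ξ⟩ * (N ξ : cycloField (p ^ a)) *
        (⟨conj (L ξ'), (hconj ξ').1⟩ * (N ξ' : cycloField (p ^ a))) *
        (((redInt p b ξ.1 ξ'.1 : ℚ) / (p : ℚ) ^ blockDefect p b : ℚ) : cycloField (p ^ a)) := by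
    apply Subtype.ext
    simp only [AddSubmonoidClass.coe_finset_sum]
    show contrib p b y χ χ = _
    rw [contrib_eq_sum hM hb]
    refine sum_congr rfl fun ξ _ => sum_congr rfl fun ξ' _ => ?_
    rw [hLN, hLN, map_mul, map_natCast, hR]
    simp [mul_assoc]
  rw [hformula, map_sum]
  refine sum_congr rfl fun ξ _ => ?_
  rw [map_sum]
  refine sum_congr rfl fun ξ' _ => ?_
  rw [map_mul, map_mul, map_mul, map_mul, map_natCast, map_natCast, map_ratCast, (hconj ξ').2, hR]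
  simp only [d, map_mul, map_natCast]

end contrib

end CfsgLib.HeightBound
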